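import Groth.Agent.CohTopLib.ClosedPush
import Groth.Agent.ModSiteLib.PullMono
import Groth.Agent.LocalGenLib.Space
import Groth.Agent.ModSiteLib.Colimits

/-!
# Direct image of modules along a closed embedding of ringed spaces
-/

set_option autoImplicit false
set_option linter.style.haveILetI false
set_option backward.isDefEq.respectTransparency false
set_option backward.isDefEq.respectTransparency.types false
set_option maxHeartbeats 1000000

universe u

open CategoryTheory Limits Opposite TopologicalSpace Groth.Agent.ModSiteLib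
  Groth.Agent.ModSiteLib.SetPull ModSiteLib Groth.Agent.LocalGenLib

namespace Groth.Agent.ClosedPushModLib

section Space

variable {X : TopCat.{u}} {O : TopCat.Sheaf CommRingCat.{u} X}

/-- A downward closed property holding near every point holds locally. -/
theorem loc_of_nhds {V : Opens X} {P : ∀ ⦃V' : Opens X⦄, (V' ⟶ V) → Prop}
    (hP : ∀ ⦃V' V'' : Opens X⦄ (g : V' ⟶ V) (k : V'' ⟶ V'), P g → P (k ≫ g))
    (h : ∀ x ∈ V, ∃ (V' : Opens X) (g : V' ⟶ V), x ∈ V' ∧ P g) :
    Loc (Opens.grothendieckTopology X) V P := by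
  refine ⟨{ arrows := fun V' g => P g, downward_closed := fun hg k => hP _ k hg }, fun x hx => ?_,
    fun _ _ hg => hg⟩
  obtain ⟨V', g, hxV', hg⟩ := h x hx
  exact ⟨V', g, hg, hxV'⟩

/-- Sections agreeing near every point agree. -/
theorem sec_ext (M : ModSite.Mod O) {V : Opens X} {s t : Sec M V}
    (h : ∀ x ∈ V, ∃ (V' : Opens X) (g : V' ⟶ V), x ∈ V' ∧
      res ((jP O).obj M) g.op s = res ((jP O).obj M) g.op t) : s = t := by
  have hL : Loc (Opens.grothendieckTopology X) V fun V' g =>
      res ((jP O).obj M) g.op (s - t) = 0 := by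
    refine loc_of_nhds (fun V' V'' g k hg => ?_) fun x hx => ?_
    · exact (res_op_comp g k (s - t)).trans ((congrArg _ hg).trans (res_zero' k))
    · obtain ⟨V', g, hxV', hg⟩ := h x hx
      exact ⟨V', g, hxV', (map_sub (((jP O).obj M).map g.op).hom s t).trans (sub_eq_zero.2 hg)⟩
  exact sub_eq_zero.1 (sec_eq_zero_of_loc M _ hL)

end Space

variable {Z X : TopCat.{u}} (i : Z ⟶ X) {O_Z : TopCat.Sheaf CommRingCat.{u} Z}
  {O_X : TopCat.Sheaf CommRingCat.{u} X}
  (c : O_X ⟶ ((TopologicalSpace.Opens.map i).sheafPushforwardContinuous CommRingCat.{u}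
    (Opens.grothendieckTopology X) (Opens.grothendieckTopology Z)).obj O_Z)

/-- The morphism of ringed sites. -/
noncomputable abbrev rm : ModSite.RMor O_Z O_X := ModSite.RMor.ofFlat (TopologicalSpace.Opens.map i) c

/-- The preimage of an open. -/
abbrev pre (V : Opens X) : Opens Z := (Opens.map i).obj V

/-- The image of a scalar. -/
noncomputable abbrev cS {V : Opens X} (a : O_X.obj.obj (op V)) : O_Z.obj.obj (op (pre i V)) :=
  (c.hom.app (op V)).hom a

variable (hi : Topology.IsClosedEmbedding i) (hc : Sheaf.IsLocallySurjective c)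

include hc in
theorem exists_lifts_near {n : ℕ} {V : Opens X} {x : X} (hx : x ∈ V)
    (a : Fin n → O_Z.obj.obj (op (pre i V))) :
    ∃ (V' : Opens X) (g : V' ⟶ V) (b : Fin n → O_X.obj.obj (op V')), x ∈ V' ∧
      ∀ k, (c.hom.app (op V')).hom (b k) = rC ((Opens.map i).map g) (a k) := by
  classical
  haveI : Presheaf.IsLocallySurjective (Opens.grothendieckTopology X) c.hom := hc
  obtain ⟨S, hS, hb⟩ := Loc.forall_finset (J := Opens.grothendieckTopology X) (Finset.univ : Finset (Fin n))
    (p := fun k V' (g : V' ⟶ V) => ∃ b, (c.hom.app (op V')).hom b = rC ((Opens.map i).map g) (a k))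
    fun k _ => ⟨_, Presheaf.imageSieve_mem (Opens.grothendieckTopology X) c.hom (a k),
      fun _ _ ⟨b, hb⟩ => ⟨b, hb⟩⟩
  obtain ⟨V', g, hg, hxV'⟩ := hS x hx
  exact ⟨V', g, fun k => (hb g hg k (Finset.mem_univ k)).choose, hxV',
    fun k => (hb g hg k (Finset.mem_univ k)).choose_spec⟩

include hi hc in
theorem epi_unit (M : ModSite.Mod O_X) : Epi ((rm i c).adj.unit.app M) := by
  refine epi_of_loc_surjective _ fun V t => loc_of_nhds (fun V' V'' g k ⟨p, hp⟩ =>
    ⟨res ((jP O_X).obj M) k.op p, (app_res ((jP O_X).map ((rm i c).adj.unit.app M)) k.op p).trans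
      ((congrArg _ hp).trans (res_op_comp g k t).symm)⟩) fun x hx => ?_
  by_cases hr : x ∈ Set.range i
  · obtain ⟨z, rfl⟩ := hr
    obtain ⟨W, g, w, -, n, a, U, h, m, ht⟩ := loc_point (pt z) (loc_pull (rm i c) M t)
      (fib (show z ∈ pre i V from hx))
    obtain ⟨V₀, hV₀, hW⟩ := hi.isInducing.isOpen_iff.mp W.isOpen
    let V₁ : Opens X := ⟨V₀, hV₀⟩ ⊓ V ⊓ Finset.univ.inf U
    have hz₁ : i z ∈ V₁ := by
      refine ⟨⟨?_, hx⟩, ?_⟩
      · exact (Set.ext_iff.1 hW z).2 (mem_of_fib w)
      · rw [SetLike.mem_coe, ← SetLike.mem_coe, Opens.coe_finset_inf, Finset.inf_eq_iInf]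
        simp only [Set.iInf_eq_iInter, Set.mem_iInter, Function.comp_apply, SetLike.mem_coe]
        exact fun k _ => (leOfHom (h k)) (mem_of_fib w)
    have h₁ : pre i V₁ ≤ W := fun y hy => (Set.ext_iff.1 hW y).1 hy.1.1
    obtain ⟨V₂, g₂, b, hz₂, hb⟩ := exists_lifts_near i c hc hz₁ fun k => rC (homOfLE h₁) (a k)
    let q : ∀ k, V₂ ⟶ U k := fun k =>
      g₂ ≫ homOfLE (inf_le_right.trans (Finset.inf_le (Finset.mem_univ k)))
    let gV : V₂ ⟶ V := g₂ ≫ homOfLE (inf_le_left.trans inf_le_right)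
    refine ⟨V₂, gV, hz₂, ∑ k, b k • res ((jP O_X).obj M) (q k).op (m k), ?_⟩
    let j : pre i V₂ ⟶ W := (Opens.map i).map g₂ ≫ homOfLE h₁
    show _ = res ((jP O_Z).obj ((rm i c).pull.obj M)) ((Opens.map i).map gV).op t
    rw [show (Opens.map i).map gV = j ≫ g from Subsingleton.elim _ _, op_comp, ← res_comp, ht, res_sum,
      ap_sum]
    refine Finset.sum_congr rfl fun k _ => ?_
    rw [res_smul, res_puR, ap_smul]
    refine congrArg₂ (fun (r : O_Z.obj.obj (op (pre i V₂)))
      (s : Sec ((rm i c).pull.obj M) (pre i V₂)) => r • s) ?_ ?_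
    · exact (hb k).trans (rC_comp _ _ _).symm
    · refine (app_res ((jP O_X).map ((rm i c).adj.unit.app M)) (q k).op (m k)).trans ?_
      exact congrArg (fun e : pre i V₂ ⟶ pre i (U k) => res ((jP O_Z).obj ((rm i c).pull.obj M)) e.op
        (puS (rm i c) (m k))) (Subsingleton.elim _ _)
  · let V' : Opens X := ⟨(Set.range i)ᶜ, hi.isClosed_range.isOpen_compl⟩ ⊓ V
    refine ⟨V', homOfLE inf_le_right, ⟨hr, hx⟩, 0, ?_⟩
    exact sec_ext ((rm i c).pull.obj M) (V := pre i V') fun z hz => absurd ⟨z, rfl⟩ hz.1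

include hi in
theorem push_faithful : (rm i c).push.Faithful := by
  haveI := CohTopLib.push_faithful i hi
  haveI : ((rm i c).push ⋙ SheafOfModules.toSheaf (ModSite.ringSh O_X)).Faithful :=
    inferInstanceAs (SheafOfModules.toSheaf (ModSite.ringSh O_Z) ⋙ CohTop.push i).Faithful
  exact Functor.Faithful.of_comp _ (SheafOfModules.toSheaf (ModSite.ringSh O_X))

include hi in
theorem push_preservesFiniteColimits : PreservesFiniteColimits (rm i c).push := by
  haveI := CohTopLib.push_preservesFiniteColimits i hi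
  haveI : PreservesFiniteColimits (SheafOfModules.toSheaf.{u} (ModSite.ringSh O_Z)) :=
    PreservesColimitsOfSize.preservesFiniteColimits _
  haveI : PreservesFiniteColimits ((rm i c).push ⋙ SheafOfModules.toSheaf (ModSite.ringSh O_X)) :=
    comp_preservesFiniteColimits (SheafOfModules.toSheaf.{u} (ModSite.ringSh O_Z)) (CohTop.push i)
  haveI : ReflectsColimitsOfSize.{0, 0} (SheafOfModules.toSheaf.{u} (ModSite.ringSh O_X)) :=
    reflectsColimitsOfSize_shrink.{0, u, 0, u} _
  exact ⟨fun K _ _ => preservesColimitsOfShape_of_reflects_of_preserves (rm i c).push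
    (SheafOfModules.toSheaf (ModSite.ringSh O_X))⟩

include hi hc in
theorem push_full : (rm i c).push.Full where
  map_surjective {F G} φ := by
    haveI := CohTopLib.push_full i hi
    obtain ⟨ψ, hψ⟩ := (CohTop.push i).map_surjective
      (X := (SheafOfModules.toSheaf (ModSite.ringSh O_Z)).obj F)
      (Y := (SheafOfModules.toSheaf (ModSite.ringSh O_Z)).obj G)
      ((SheafOfModules.toSheaf (ModSite.ringSh O_X)).map φ)
    have hψV : ∀ (V : Opens X) (s : Sec F (pre i V)),
        ψ.hom.app (op (pre i V)) s = ap φ V s := fun V s => congr(($hψ).hom.app (op V) s)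
    let Ψ : ∀ W : (Opens Z)ᵒᵖ, Sec F W.unop → Sec G W.unop := fun W s => ψ.hom.app W s
    have hlin : ∀ (W : (Opens Z)ᵒᵖ) (r : O_Z.obj.obj W) (s : Sec F W.unop),
        Ψ W (r • s) = r • Ψ W s := by
      intro W r s
      refine sec_ext G fun z hz => ?_
      obtain ⟨V₀, hV₀, hW⟩ := hi.isInducing.isOpen_iff.mp W.unop.isOpen
      let V : Opens X := ⟨V₀, hV₀⟩
      have hVW : pre i V ≤ W.unop := fun y hy => (Set.ext_iff.1 hW y).1 hy
      obtain ⟨V', g, b, hzV', hb⟩ := exists_lifts_near i c hc (n := 1) (V := V) (x := i z)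
        ((Set.ext_iff.1 hW z).2 hz) fun _ => rC (homOfLE hVW) r
      let j : pre i V' ⟶ W.unop := (Opens.map i).map g ≫ homOfLE hVW
      refine ⟨pre i V', j, hzV', ?_⟩
      have nat : ∀ x : Sec F W.unop, res ((jP O_Z).obj G) j.op (Ψ W x) =
          ap φ V' (res ((jP O_Z).obj F) j.op x) := fun x =>
        (ConcreteCategory.congr_hom (ψ.hom.naturality j.op) x).symm.trans (hψV V' _)
      have hb' : (c.hom.app (op V')).hom (b 0) = rC j r := (hb 0).trans (rC_comp _ _ _).symm
      rw [nat, res_smul, res_smul, nat]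
      show ap φ V' (rC j r • res ((jP O_Z).obj F) j.op s : Sec F (pre i V')) =
        rC j r • (show Sec G (pre i V') from ap φ V' (res ((jP O_Z).obj F) j.op s))
      rw [← hb']
      exact ap_smul φ V' (b 0) _
    let α : (jP O_Z).obj F ⟶ (jP O_Z).obj G :=
      PresheafOfModules.homMk ψ.hom hlin
    refine ⟨((adjP O_Z).fullyFaithfulROfIsIsoCounit).preimage α, SheafOfModules.hom_ext
      (PresheafOfModules.hom_ext fun V => ModuleCat.hom_ext (LinearMap.ext fun s => ?_))⟩
    show ap (((adjP O_Z).fullyFaithfulROfIsIsoCounit).preimage α) (pre i V.unop) s = ap φ V.unop s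
    refine Eq.trans ?_ (hψV V.unop s)
    show ((jP O_Z).map _).app _ s = _
    rw [Functor.FullyFaithful.map_preimage]
    rfl

variable {I : Type u} (obj : I → Opens X)

theorem ap_unit_eq_zero_imp {G : ModSite.Mod O_X} (π : genMod (O := O_X) obj ⟶ G)
    (hG : ∀ (U : Opens X) (a : O_X.obj.obj (op U)), (c.hom.app (op U)).hom a = 0 →
      ∀ s : Sec G U, a • s = 0)
    {V : Opens X} (p : Sec (genMod (O := O_X) obj) V)
    (hp : ap ((rm i c).adj.unit.app (genMod (O := O_X) obj)) V p = 0) : ap π V p = 0 := by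
  classical
  refine sec_eq_zero_of_loc G _ ((loc_hatA isGenA_genSec p).mono fun V' g ⟨y, hy⟩ => ?_)
  refine (app_res ((jP O_X).map π) g.op p).symm.trans ?_
  refine (congrArg (ap π V') hy).trans ((ap_sum π V' _ _).trans (Finset.sum_eq_zero fun q hq => ?_))
  rw [ap_smul]
  refine hG V' (y q) ?_ _
  -- the coefficients vanish
  let f := rm i c
  let obj' : I → Opens Z := fun k => pre i (obj k)
  let key : (gA obj).obj (op V') → (gA obj').obj (op (pre i V')) := fun q => ⟨q.1, (Opens.map i).map q.2⟩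
  let y' : (frP (O := O_Z) (gA obj')).obj (op (pre i V')) :=
    ∑ r ∈ y.support, cS i c (y r) •
      (ModuleCat.freeMk (key r) : (frP (O := O_Z) (gA obj')).obj (op (pre i V')))
  let hat := hatA (M := f.pull.obj (genMod (O := O_X) obj)) (obj := obj')
    fun k => puS f (genSec (O := O_X) obj k)
  have hy' : hat.app (op (pre i V')) y' = hat.app (op (pre i V')) 0 := by
    rw [map_zero, map_sum]
    refine Eq.trans (Finset.sum_congr rfl fun r _ => ?_) (Eq.trans
      ((congrArg (ap (f.adj.unit.app (genMod (O := O_X) obj)) V') hy).trans (ap_sum _ V' _ _)).symm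
      ((app_res ((jP O_X).map (f.adj.unit.app _)) g.op p).trans
        ((congrArg (res _ g.op) hp).trans (res_zero' g))))
    refine (map_smul (hat.app (op (pre i V'))).hom _ _).trans (Eq.trans ?_
      (ap_smul (f.adj.unit.app (genMod (O := O_X) obj)) V' (y r)
        (res ((jP O_X).obj (genMod (O := O_X) obj)) r.2.op (genSec obj r.1))).symm)
    refine congrArg (fun s : Sec (f.pull.obj (genMod (O := O_X) obj)) (pre i V') =>
      cS i c (y r) • s) ?_
    refine (hatA_mk _ _ _).trans ?_
    exact (app_res ((jP O_X).map (f.adj.unit.app (genMod (O := O_X) obj))) r.2.op (genSec obj r.1)).symm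
  have hW := W_hatA (isGenA_puS f (isGenA_genSec (O := O_X) (obj := obj)))
  rw [GrothendieckTopology.W_iff_isLocallyBijective] at hW
  haveI := hW.1
  have hE := Presheaf.equalizerSieve_mem (Opens.grothendieckTopology Z)
    ((PresheafOfModules.toPresheaf _).map hat) (X := op (pre i V')) y' 0 hy'
  refine sec_ext (ModSite.unit O_Z) (V := pre i V') fun z hz => ?_
  obtain ⟨W, j, hj, hzW⟩ := hE z hz
  refine ⟨W, j, hzW, ?_⟩
  show rC j ((c.hom.app (op V')).hom (y q)) = rC j (0 : O_Z.obj.obj (op (pre i V')))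
  have hinj : Function.Injective fun r : (gA obj).obj (op V') => (gA obj').map j.op (key r) := by
    rintro ⟨k, a⟩ ⟨k', a'⟩ h
    obtain rfl : k = k' := congrArg Sigma.fst h
    exact congrArg (Sigma.mk k) (Subsingleton.elim _ _)
  have hj' : res (frP (O := O_Z) (gA obj')) j.op y' = 0 :=
    (hj : res (frP (O := O_Z) (gA obj')) j.op y' = res (frP (O := O_Z) (gA obj')) j.op 0).trans
      (map_zero (((frP (O := O_Z) (gA obj')).map j.op)).hom)
  rw [res_sum] at hj'
  have hj'' : ∑ r ∈ y.support, (rC j ((c.hom.app (op V')).hom (y r)) : O_Z.obj.obj (op W)) •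
      Finsupp.single ((gA obj').map j.op (key r)) (1 : O_Z.obj.obj (op W)) = 0 := by
    refine Eq.trans (Finset.sum_congr rfl fun r _ => ?_) hj'
    rw [res_smul, res_freeMk]
    rfl
  have h := congrArg (fun t : (gA obj').obj (op W) →₀ O_Z.obj.obj (op W) =>
    t ((gA obj').map j.op (key q))) hj''
  simp only [Finsupp.finset_sum_apply, Finsupp.smul_apply, Finsupp.single_apply, Finsupp.coe_zero,
    Pi.zero_apply, hinj.eq_iff, smul_eq_mul, mul_ite, mul_one, mul_zero] at h
  rw [Finset.sum_ite_eq', if_pos hq] at h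
  exact h.trans (map_zero _).symm

include hi hc in
theorem isIso_unit (G : ModSite.Mod O_X)
    (hG : ∀ (U : Opens X) (a : O_X.obj.obj (op U)), (c.hom.app (op U)).hom a = 0 →
      ∀ s : Sec G U, a • s = 0) : IsIso ((rm i c).adj.unit.app G) := by
  let f := rm i c
  haveI := push_preservesFiniteColimits i c hi
  haveI : f.pull.IsLeftAdjoint := f.adj.isLeftAdjoint
  haveI : PreservesFiniteColimits f.pull := by
    haveI : PreservesColimitsOfSize.{0, 0} f.pull := f.adj.leftAdjoint_preservesColimits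
    exact PreservesColimitsOfSize.preservesFiniteColimits _
  haveI : PreservesFiniteColimits (f.pull ⋙ f.push) := comp_preservesFiniteColimits _ _
  haveI : (f.pull ⋙ f.push).Additive := by
    haveI : f.pull.Additive := f.adj.left_adjoint_additive
    infer_instance
  let P₀ := coverMod G
  let π : P₀ ⟶ G := coverπ G
  haveI : Epi π := epi_of_loc_surjective π fun V t => Loc.of_forall fun V' g => coverπ_surjective G V' _
  haveI := epi_unit i c hi hc P₀
  let P₁ := coverMod (kernel π)
  haveI := epi_unit i c hi hc P₁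
  haveI : Epi (coverπ (kernel π)) :=
    epi_of_loc_surjective _ fun V t => Loc.of_forall fun V' g => coverπ_surjective (kernel π) V' _
  have hk : kernel.ι (f.adj.unit.app P₀) ≫ π = 0 := by
    refine SheafOfModules.hom_ext (PresheafOfModules.hom_ext fun V => ModuleCat.hom_ext
      (LinearMap.ext fun p => ?_))
    show ap (kernel.ι (f.adj.unit.app P₀) ≫ π) V.unop p = 0
    refine (ap_comp _ _ _ _).trans (ap_unit_eq_zero_imp i c _ π hG _ ?_)
    refine (ap_comp _ _ _ _).symm.trans ?_
    exact (congrArg (fun t => ap t V.unop p) (kernel.condition (f.adj.unit.app P₀))).trans rfl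
  let τ : f.push.obj (f.pull.obj P₀) ⟶ G := Abelian.epiDesc (f.adj.unit.app P₀) π hk
  have hτ : f.adj.unit.app P₀ ≫ τ = π := Abelian.comp_epiDesc _ _ _
  let ρ : P₁ ⟶ P₀ := coverπ (kernel π) ≫ kernel.ι π
  have hρ : ρ ≫ π = 0 := by simp [ρ]
  have hρτ : (f.pull ⋙ f.push).map ρ ≫ τ = 0 := by
    rw [← cancel_epi (f.adj.unit.app P₁), comp_zero, ← Category.assoc]
    refine (congrArg (· ≫ τ) (f.adj.unit.naturality ρ).symm).trans ?_
    rw [Category.assoc, hτ]
    exact hρ
  have hc₀ : IsColimit (CokernelCofork.ofπ π hρ) :=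
    isCokernelEpiComp (c := CokernelCofork.ofπ _ (kernel.condition π))
      (Abelian.epiIsCokernelOfKernel _ (limit.isLimit _)) (coverπ (kernel π)) rfl
  let σ := CokernelCofork.IsColimit.desc' (isColimitCoforkMapOfIsColimit' (f.pull ⋙ f.push) hρ hc₀) τ hρτ
  have hσ : f.adj.unit.app G ≫ σ.1 = 𝟙 G := by
    rw [← cancel_epi π, ← Category.assoc, Category.comp_id]
    refine (congrArg (· ≫ σ.1) (f.adj.unit.naturality π)).trans ((Category.assoc _ _ _).trans ?_)
    exact (congrArg (f.adj.unit.app P₀ ≫ ·) σ.2).trans hτ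
  haveI : Mono (f.adj.unit.app G) := mono_of_mono_fac hσ
  haveI := epi_unit i c hi hc G
  exact isIso_of_mono_of_epi _

include hi hc in
theorem essImage_iff (G : ModSite.Mod O_X) :
    (rm i c).push.essImage G ↔ ∀ (U : Opens X) (a : O_X.obj.obj (op U)),
      (c.hom.app (op U)).hom a = 0 → ∀ s : Sec G U, a • s = 0 := by
  refine ⟨?_, fun hG => ?_⟩
  · rintro ⟨F, ⟨e⟩⟩ U a ha s
    have h1 : ap e.inv U (a • s) = 0 := by
      refine (ap_smul e.inv U a s).trans ?_
      show cS i c a •
        (show Sec F (pre i U) from ap e.inv U s) = (0 : Sec F (pre i U))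
      rw [show cS i c a = 0 from ha]
      exact zero_smul _ _
    have h2 : ap e.hom U (ap e.inv U (a • s)) = a • s := by
      refine (ap_comp e.inv e.hom U _).symm.trans ?_
      rw [Iso.inv_hom_id]
      rfl
    rw [← h2, h1]
    exact map_zero _
  · haveI := isIso_unit i c hi hc G hG
    exact ⟨_, ⟨(asIso ((rm i c).adj.unit.app G)).symm⟩⟩

include hi hc in
theorem isFiniteType_push_iff (F : ModSite.Mod O_Z) :
    SheafOfModules.IsFiniteType.{u} ((rm i c).push.obj F) ↔ SheafOfModules.IsFiniteType.{u} F := by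
  classical
  constructor
  · intro h
    refine isFiniteType_of_locally F fun W => loc_of_nhds (fun V' V'' g k hg => hg.res k) fun z hz => ?_
    obtain ⟨V, hxV, n, e, he⟩ := exists_nhd_of_locally (locally_hasGen ((rm i c).push.obj F)) (i z)
    refine ⟨pre i V ⊓ W, homOfLE inf_le_right, ⟨hxV, hz⟩, HasGen.res (U := pre i V) ?_
      (homOfLE inf_le_left)⟩
    refine ⟨n, fun k => (e k : Sec F (pre i V)), fun {W'} g x => loc_of_nhds
      (fun V' V'' g' k ⟨d, hd⟩ => ⟨fun a => rC k (d a), ?_⟩) fun y hy => ?_⟩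
    · rw [res_op_comp g' k, hd, res_comb]
      exact Finset.sum_congr rfl fun a _ => by rw [Category.assoc, res_op_comp (g' ≫ g) k]
    obtain ⟨V₀, hV₀, hW'⟩ := hi.isInducing.isOpen_iff.mp W'.isOpen
    let V₁ : Opens X := ⟨V₀, hV₀⟩ ⊓ V
    have h₁ : pre i V₁ ≤ W' := fun a ha => (Set.ext_iff.1 hW' a).1 ha.1
    obtain ⟨V₂, g₂, w, -, d, hd⟩ := loc_point (pt (i y))
      (he (homOfLE inf_le_right : V₁ ⟶ V) (res ((jP O_Z).obj F) (homOfLE h₁).op x : Sec F (pre i V₁)))
      (fib (show i y ∈ V₁ from ⟨(Set.ext_iff.1 hW' y).2 hy, (leOfHom g) hy⟩))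
    refine ⟨pre i V₂, (Opens.map i).map g₂ ≫ homOfLE h₁, mem_of_fib w,
      fun a => cS i c (d a), ?_⟩
    refine (res_op_comp _ _ x).trans (hd.trans ?_)
    refine Finset.sum_congr rfl fun a _ => ?_
    exact congrArg (fun k : pre i V₂ ⟶ pre i V =>
      cS i c (d a) •
        res ((jP O_Z).obj F) k.op (e a : Sec F (pre i V))) (Subsingleton.elim _ _)
  · intro h
    refine isFiniteType_of_locally _ fun Y => loc_of_nhds (fun V' V'' g k hg => hg.res k) fun x hx => ?_
    by_cases hr : x ∈ Set.range i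
    · obtain ⟨z, rfl⟩ := hr
      obtain ⟨W, hzW, n, e, he⟩ := exists_nhd_of_locally (locally_hasGen F) z
      obtain ⟨V₀, hV₀, hW⟩ := hi.isInducing.isOpen_iff.mp W.isOpen
      let V : Opens X := ⟨V₀, hV₀⟩ ⊓ Y
      have hVW : pre i V ≤ W := fun a ha => (Set.ext_iff.1 hW a).1 ha.1
      refine ⟨V, homOfLE inf_le_right, ⟨(Set.ext_iff.1 hW z).2 hzW, hx⟩, n,
        fun a => (res ((jP O_Z).obj F) (homOfLE hVW).op (e a) : Sec F (pre i V)),
        fun {V'} g s => loc_of_nhds (fun A B g' k ⟨d, hd⟩ => ⟨fun a => rC k (d a), ?_⟩) fun y hy => ?_⟩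
      · rw [res_op_comp g' k, hd, res_comb]
        exact Finset.sum_congr rfl fun a _ => by rw [Category.assoc, res_op_comp (g' ≫ g) k]
      by_cases hy' : y ∈ Set.range i
      · obtain ⟨w, rfl⟩ := hy'
        obtain ⟨W₂, g₂, w₂, -, d, hd⟩ := loc_point (pt w)
          (he ((Opens.map i).map g ≫ homOfLE hVW) (s : Sec F (pre i V')))
          (fib (show w ∈ pre i V' from hy))
        obtain ⟨A₀, hA₀, hA⟩ := hi.isInducing.isOpen_iff.mp W₂.isOpen
        let A : Opens X := ⟨A₀, hA₀⟩ ⊓ V'
        have hAW : pre i A ≤ W₂ := fun a ha => (Set.ext_iff.1 hA a).1 ha.1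
        obtain ⟨A', g', b, hwA', hb⟩ := exists_lifts_near i c hc (V := A) (x := i w)
          ⟨(Set.ext_iff.1 hA w).2 (mem_of_fib w₂), hy⟩ fun a => rC (homOfLE hAW) (d a)
        let j : pre i A' ⟶ W₂ := (Opens.map i).map g' ≫ homOfLE hAW
        refine ⟨A', g' ≫ homOfLE inf_le_right, hwA', b, ?_⟩
        show res ((jP O_Z).obj F) ((Opens.map i).map (g' ≫ homOfLE inf_le_right)).op s = _
        rw [show (Opens.map i).map (g' ≫ homOfLE (inf_le_right : A ≤ V')) = j ≫ g₂ from
          Subsingleton.elim _ _, res_op_comp g₂ j, hd, res_comb]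
        refine Finset.sum_congr rfl fun a _ => ?_
        show rC j (d a) • res ((jP O_Z).obj F) j.op _ =
          cS i c (b a) • _
        show _ = cS i c (b a) • res ((jP O_Z).obj F) ((Opens.map i).map ((g' ≫ homOfLE inf_le_right) ≫ g)).op
          (res ((jP O_Z).obj F) (homOfLE hVW).op (e a))
        rw [← res_op_comp, ← res_op_comp, show cS i c (b a) = rC j (d a) from (hb a).trans (rC_comp _ _ _).symm]
        exact congrArg (fun k : pre i A' ⟶ W => rC j (d a) • res ((jP O_Z).obj F) k.op (e a))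
          (Subsingleton.elim _ _)
      · let A : Opens X := ⟨(Set.range i)ᶜ, hi.isClosed_range.isOpen_compl⟩ ⊓ V'
        exact ⟨A, homOfLE inf_le_right, ⟨hy', hy⟩, 0, sec_ext F (V := pre i A) fun a ha =>
          absurd ⟨a, rfl⟩ ha.1⟩
    · let V : Opens X := ⟨(Set.range i)ᶜ, hi.isClosed_range.isOpen_compl⟩ ⊓ Y
      refine ⟨V, homOfLE inf_le_right, ⟨hr, hx⟩, 0, Fin.elim0, fun {V'} g s => Loc.of_forall
        fun A g' => ⟨Fin.elim0, sec_ext F (V := pre i A) fun a ha =>
          absurd ⟨a, rfl⟩ ((leOfHom (g' ≫ g)) ha).1⟩⟩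

end Groth.Agent.ClosedPushModLib
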